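import Mathlib
import Groth.Agent.H33.LocCoprod
import Groth.Agent.H33.HoCoprod
import Groth.Agent.H5.AcyclicCoprod

/-!
# `Q : CochainComplex A ℤ ⥤ D(A)` preserves coproducts (A Grothendieck abelian)
-/

set_option autoImplicit false
universe w v u
open CategoryTheory CategoryTheory.Limits

namespace Groth.Agent.H33.BrownGA

variable {A : Type u} [Category.{v} A] [Abelian A] [IsGrothendieckAbelian.{v} A]
  [HasDerivedCategory.{w} A]

lemma acyclic_coprod_closed {J : Type v}
    (C : J → HomotopyCategory A (ComplexShape.up ℤ))
    [HasCoproduct C]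
    (hC : ∀ j, HomotopyCategory.subcategoryAcyclic A (C j)) :
    HomotopyCategory.subcategoryAcyclic A (∐ C) := by
  have hF := fun j : J => HomotopyCategory.quotient_obj_surjective (C j)
  choose K hK' using hF
  obtain rfl : C = fun j => (HomotopyCategory.quotient A (ComplexShape.up ℤ)).obj (K j) :=
    funext (fun j => (hK' j).symm)
  have e : (∐ fun j => (HomotopyCategory.quotient A (ComplexShape.up ℤ)).obj (K j)) ≅
      (HomotopyCategory.quotient A (ComplexShape.up ℤ)).obj (∐ K) :=
    IsColimit.coconePointUniqueUpToIso (coproductIsCoproduct _)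
      (Groth.Agent.H33.HoCoprod.isColimitQuotient K)
  refine (HomotopyCategory.subcategoryAcyclic A).prop_of_iso e.symm ?_
  rw [HomotopyCategory.quotient_obj_mem_subcategoryAcyclic_iff_exactAt]
  intro n
  apply Groth.Agent.H5.AcyclicCoprod.exactAt_sigma
  intro j n
  exact (HomotopyCategory.quotient_obj_mem_subcategoryAcyclic_iff_exactAt (K j)).1 (hC j) n

lemma hasCoproductsOfShape_homotopyCategory (J : Type v) :
    HasCoproductsOfShape J (HomotopyCategory A (ComplexShape.up ℤ)) := by
  constructor
  intro F
  have hF := fun j : J => HomotopyCategory.quotient_obj_surjective (F.obj ⟨j⟩)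
  choose K hK using hF
  let e : Discrete.functor (fun j => (HomotopyCategory.quotient A (ComplexShape.up ℤ)).obj (K j)) ≅ F :=
    Discrete.natIso (fun j => eqToIso (hK j.as))
  have : HasColimit (Discrete.functor
      (fun j => (HomotopyCategory.quotient A (ComplexShape.up ℤ)).obj (K j))) :=
    ⟨⟨⟨_, Groth.Agent.H33.HoCoprod.isColimitQuotient K⟩⟩⟩
  exact hasColimit_of_iso e.symm

/-- `Q` sends the coproduct of complexes to a coproduct in the derived category. -/
noncomputable def isColimitQ {J : Type v} (K : J → CochainComplex A ℤ) :
    IsColimit (Cofan.mk (DerivedCategory.Q.obj (∐ K))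
      (fun j => DerivedCategory.Q.map (Sigma.ι K j))) := by
  have := hasCoproductsOfShape_homotopyCategory (A := A) J
  -- the quotient functor preserves the coproduct
  have h1 : PreservesColimit (Discrete.functor K)
      (HomotopyCategory.quotient A (ComplexShape.up ℤ)) :=
    preservesColimit_of_preserves_colimit_cocone (coproductIsCoproduct K)
      ((isColimitMapCoconeCofanMkEquiv _ _ _).symm
        (Groth.Agent.H33.HoCoprod.isColimitQuotient K))
  let X : J → HomotopyCategory A (ComplexShape.up ℤ) :=
    fun j => (HomotopyCategory.quotient A (ComplexShape.up ℤ)).obj (K j)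
  have h2 : PreservesColimit (Discrete.functor X) (DerivedCategory.Qh (C := A)) :=
    preservesColimit_of_preserves_colimit_cocone (coproductIsCoproduct X)
      ((isColimitMapCoconeCofanMkEquiv _ _ _).symm
        (Groth.Agent.H33.LocCoprod.isColimitMap
          (HomotopyCategory.subcategoryAcyclic A) DerivedCategory.Qh
          (fun C hC => acyclic_coprod_closed C hC) X))
  have h2' : PreservesColimit (Discrete.functor K ⋙
      HomotopyCategory.quotient A (ComplexShape.up ℤ)) (DerivedCategory.Qh (C := A)) :=
    preservesColimit_of_iso_diagram _ (Discrete.natIso (fun _ => Iso.refl _) :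
      Discrete.functor X ≅ Discrete.functor K ⋙ HomotopyCategory.quotient A (ComplexShape.up ℤ))
  have h3 : PreservesColimit (Discrete.functor K)
      (HomotopyCategory.quotient A (ComplexShape.up ℤ) ⋙ DerivedCategory.Qh) :=
    inferInstance
  have h4 : PreservesColimit (Discrete.functor K) (DerivedCategory.Q (C := A)) :=
    preservesColimit_of_natIso _ (DerivedCategory.quotientCompQhIso A)
  exact (isColimitMapCoconeCofanMkEquiv _ _ _)
    (isColimitOfPreserves (DerivedCategory.Q (C := A)) (coproductIsCoproduct K))

end Groth.Agent.H33.BrownGA
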