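import Mathlib
import Groth.Agent.H33.BrownGA.QCoprod
import Groth.Agent.H82.Compact

/-!
# A compact projective object is compact in the derived category

Let `A` be a Grothendieck abelian category and `P` a projective object of `A` such that maps out
of `P` into a coproduct factor through finitely many summands (`FinFactor`, equivalently
`CohDer.IsCompactObject P`). Then `P`, placed in degree `0`, is a compact object of `D(A)`.
-/

set_option autoImplicit false
universe w v u
open CategoryTheory CategoryTheory.Limits

namespace Groth.Agent.H33.BrownGA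

variable {A : Type u} [Category.{v} A] [Abelian A]

/-- Morphisms in the derived category out of a K-projective complex lift to chain maps. -/
lemma exists_Q_map_eq_of_isKProjective [HasDerivedCategory.{w} A]
    (K L : CochainComplex A ℤ) [K.IsKProjective]
    (a : DerivedCategory.Q.obj K ⟶ DerivedCategory.Q.obj L) :
    ∃ f : K ⟶ L, DerivedCategory.Q.map f = a := by
  obtain ⟨b, hb⟩ := (CochainComplex.IsKProjective.Qh_map_bijective K
      ((HomotopyCategory.quotient A (ComplexShape.up ℤ)).obj L)).2
      ((DerivedCategory.quotientCompQhIso A).hom.app K ≫ a ≫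
        (DerivedCategory.quotientCompQhIso A).inv.app L)
  obtain ⟨g, rfl⟩ := (HomotopyCategory.quotient A (ComplexShape.up ℤ)).map_surjective b
  refine ⟨g, ?_⟩
  have h1 : DerivedCategory.Q.map g = (DerivedCategory.quotientCompQhIso A).inv.app K ≫
      DerivedCategory.Qh.map ((HomotopyCategory.quotient A (ComplexShape.up ℤ)).map g) ≫
      (DerivedCategory.quotientCompQhIso A).hom.app L := by
    have := (DerivedCategory.quotientCompQhIso A).hom.naturality g
    dsimp at this
    rw [this, Iso.inv_hom_id_app_assoc]
  rw [h1, hb]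
  simp

/-- If two chain maps out of a K-projective complex become equal in the derived category,
they are homotopic, hence equal in the homotopy category. -/
lemma quotient_map_eq_of_Q_map_eq [HasDerivedCategory.{w} A]
    (K L : CochainComplex A ℤ) [K.IsKProjective] (f g : K ⟶ L)
    (h : DerivedCategory.Q.map f = DerivedCategory.Q.map g) :
    (HomotopyCategory.quotient A (ComplexShape.up ℤ)).map f =
      (HomotopyCategory.quotient A (ComplexShape.up ℤ)).map g := by
  apply (CochainComplex.IsKProjective.Qh_map_bijective K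
      ((HomotopyCategory.quotient A (ComplexShape.up ℤ)).obj L)).1
  have h1 : ∀ g : K ⟶ L, DerivedCategory.Qh.map
      ((HomotopyCategory.quotient A (ComplexShape.up ℤ)).map g) =
      (DerivedCategory.quotientCompQhIso A).hom.app K ≫ DerivedCategory.Q.map g ≫
        (DerivedCategory.quotientCompQhIso A).inv.app L := by
    intro g
    have := (DerivedCategory.quotientCompQhIso A).hom.naturality g
    dsimp at this
    rw [← Category.assoc, ← this, Category.assoc, Iso.hom_inv_id_app]
    exact (Category.comp_id _).symm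
  rw [h1, h1, h]

instance projective_single_X (P : A) [Projective P] (n : ℤ) :
    Projective (((CochainComplex.singleFunctor A 0).obj P).X n) := by
  by_cases h : n = 0
  · subst h
    exact Projective.of_iso (HomologicalComplex.singleObjXSelf (ComplexShape.up ℤ) 0 P).symm
      inferInstance
  · exact Projective.of_iso
      (IsZero.isoZero (HomologicalComplex.isZero_single_obj_X (ComplexShape.up ℤ) 0 P n h)).symm
      inferInstance

instance isKProjective_single (P : A) [Projective P] :
    ((CochainComplex.singleFunctor A 0).obj P).IsKProjective :=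
  CochainComplex.isKProjective_of_projective _ 0

variable [IsGrothendieckAbelian.{v} A] [HasDerivedCategory.{v} A]

theorem finFactor_single (P : A) [Projective P] (hP : Groth.Agent.H82.FinFactor P) :
    Groth.Agent.H82.FinFactor ((DerivedCategory.singleFunctor A 0).obj P) := by
  classical
  intro ι X c hc φ
  -- represent the summands by complexes
  let K : ι → CochainComplex A ℤ := fun i => DerivedCategory.Q.objPreimage (X i)
  let e : ∀ i, DerivedCategory.Q.obj (K i) ≅ X i := fun i =>
    DerivedCategory.Q.objObjPreimageIso (X i)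
  let S : CochainComplex A ℤ := ∐ K
  have hQ := isColimitQ K
  let θ : c.pt ⟶ DerivedCategory.Q.obj S :=
    Cofan.IsColimit.desc hc (fun i => (e i).inv ≫ DerivedCategory.Q.map (Sigma.ι K i))
  let θinv : DerivedCategory.Q.obj S ⟶ c.pt :=
    Cofan.IsColimit.desc hQ (fun i => (e i).hom ≫ c.inj i)
  have hθ : ∀ i, c.inj i ≫ θ = (e i).inv ≫ DerivedCategory.Q.map (Sigma.ι K i) := fun i =>
    Cofan.IsColimit.fac hc _ i
  have hθinv : ∀ i, DerivedCategory.Q.map (Sigma.ι K i) ≫ θinv = (e i).hom ≫ c.inj i := fun i =>
    Cofan.IsColimit.fac hQ _ i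
  have hθθ : θ ≫ θinv = 𝟙 _ := by
    apply Cofan.IsColimit.hom_ext hc
    intro i
    rw [reassoc_of% (hθ i), hθinv, Iso.inv_hom_id_assoc, Category.comp_id]
  -- lift to a chain map
  let P0 : CochainComplex A ℤ := (HomologicalComplex.single A (ComplexShape.up ℤ) 0).obj P
  have : P0.IsKProjective := isKProjective_single P
  obtain ⟨f, hf⟩ := exists_Q_map_eq_of_isKProjective P0 S (φ ≫ θ)
  -- finiteness in degree 0
  let φ₀ : P ⟶ S.X 0 := (HomologicalComplex.singleObjXSelf (ComplexShape.up ℤ) 0 P).inv ≫ f.f 0
  obtain ⟨F, hF⟩ := hP ι (fun i => (K i).X 0) _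
    (Groth.Agent.H33.HoCoprod.isColimitEval K 0) φ₀
  refine ⟨F, fun Y g hg => ?_⟩
  let r : S ⟶ S := 𝟙 S - ∑ i ∈ F, Groth.Agent.H82.sigmaπ K i ≫ Sigma.ι K i
  have hr : ∀ j ∈ F, Sigma.ι K j ≫ r = 0 := by
    intro j hj
    dsimp only [r]
    rw [Preadditive.comp_sub, Category.comp_id, Preadditive.comp_sum, sub_eq_zero,
      Finset.sum_eq_single j]
    · rw [← Category.assoc, Groth.Agent.H82.ι_sigmaπ_self, Category.id_comp]
    · intro k _ hk
      rw [← Category.assoc, Groth.Agent.H82.ι_sigmaπ_ne K (Ne.symm hk), zero_comp]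
    · intro h; exact absurd hj h
  have h0 : φ₀ ≫ r.f 0 = 0 := by
    apply hF
    intro j hj
    show (Sigma.ι K j).f 0 ≫ r.f 0 = 0
    rw [← HomologicalComplex.comp_f, hr j hj, HomologicalComplex.zero_f]
  have hfr : f ≫ r = 0 := by
    apply HomologicalComplex.from_single_hom_ext
    rw [HomologicalComplex.comp_f, HomologicalComplex.zero_f]
    have h0' : (HomologicalComplex.singleObjXSelf (ComplexShape.up ℤ) 0 P).inv ≫
        (f.f 0 ≫ r.f 0) = 0 := (Category.assoc _ _ _).symm.trans h0
    exact (cancel_epi (HomologicalComplex.singleObjXSelf (ComplexShape.up ℤ) 0 P).inv).1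
      (h0'.trans comp_zero.symm)
  have hf' : f = ∑ i ∈ F, (f ≫ Groth.Agent.H82.sigmaπ K i) ≫ Sigma.ι K i := by
    dsimp only [r] at hfr
    rw [Preadditive.comp_sub, Category.comp_id, sub_eq_zero, Preadditive.comp_sum] at hfr
    refine hfr.trans ?_
    exact Finset.sum_congr rfl (fun i _ => (Category.assoc _ _ _).symm)
  have key : φ ≫ g = φ ≫ θ ≫ θinv ≫ g := by rw [reassoc_of% hθθ]
  have key2 : φ ≫ θ = DerivedCategory.Q.map (∑ i ∈ F, (f ≫ Groth.Agent.H82.sigmaπ K i) ≫
      Sigma.ι K i) := hf.symm.trans (congrArg (fun t => DerivedCategory.Q.map t) hf')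
  have key3 : φ ≫ θ ≫ θinv ≫ g = DerivedCategory.Q.map (∑ i ∈ F,
      (f ≫ Groth.Agent.H82.sigmaπ K i) ≫ Sigma.ι K i) ≫ θinv ≫ g := by
    rw [← Category.assoc]
    exact congrArg (fun t => t ≫ θinv ≫ g) key2
  rw [key, key3, Functor.map_sum, Preadditive.sum_comp]
  apply Finset.sum_eq_zero
  intro i hi
  rw [Functor.map_comp, Category.assoc, reassoc_of% (hθinv i), hg i hi, comp_zero]
  exact comp_zero

theorem isCompactObject_single [HasCoproducts.{v} (DerivedCategory A)]
    (P : A) [Projective P] (hP : Groth.Agent.H82.FinFactor P) :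
    CohDer.IsCompactObject ((DerivedCategory.singleFunctor A 0).obj P) :=
  Groth.Agent.H82.isCompact_of_finFactor (finFactor_single P hP)

end Groth.Agent.H33.BrownGA
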