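import Mathlib
import Groth.Agent.H33.BrownGA.CompactSingle
import Groth.Prelude.Def_CohDer

/-!
# A projective separator generates the derived category
-/

set_option autoImplicit false
universe w v u
open CategoryTheory CategoryTheory.Limits ZeroObject

namespace Groth.Agent.H33.BrownGA

variable {A : Type u} [Category.{v} A] [Abelian A] [HasDerivedCategory.{w} A]

lemma isZero_of_isZero_homology (K : DerivedCategory A)
    (h : ∀ n : ℤ, IsZero ((DerivedCategory.homologyFunctor A n).obj K)) : IsZero K := by
  have : IsIso (0 : K ⟶ 0) := by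
    rw [DerivedCategory.isIso_iff]
    intro n
    have h0 : IsZero ((DerivedCategory.homologyFunctor A n).obj (0 : DerivedCategory A)) :=
      Functor.map_isZero _ (isZero_zero _)
    exact ⟨0, (h n).eq_of_src _ _, h0.eq_of_src _ _⟩
  exact IsZero.of_iso (isZero_zero _) (asIso (0 : K ⟶ 0))

/-- if all maps from `P[0]` to `K` vanish, `P` a projective separator, then `H^0(K) = 0`. -/
lemma isZero_homology_zero_of_hom_eq_zero (P : A) [Projective P] (hP : IsSeparator P)
    (K : DerivedCategory A)
    (hK : ∀ f : (DerivedCategory.singleFunctor A 0).obj P ⟶ K, f = 0) :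
    IsZero ((DerivedCategory.homologyFunctor A 0).obj K) := by
  let L : CochainComplex A ℤ := DerivedCategory.Q.objPreimage K
  let e : DerivedCategory.Q.obj L ≅ K := DerivedCategory.Q.objObjPreimageIso K
  have e1 : (DerivedCategory.homologyFunctor A 0).obj K ≅ L.homology 0 :=
    (DerivedCategory.homologyFunctor A 0).mapIso e.symm ≪≫
      (DerivedCategory.homologyFunctorFactors A 0).app L
  refine IsZero.of_iso ?_ e1
  -- all maps from `P` to the homology vanish
  have key : ∀ h : P ⟶ L.homology 0, h = 0 := by
    intro h
    let z : P ⟶ L.cycles 0 := Projective.factorThru h (L.homologyπ 0)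
    have hz : z ≫ L.homologyπ 0 = h := Projective.factorThru_comp _ _
    let P0 : CochainComplex A ℤ := (HomologicalComplex.single A (ComplexShape.up ℤ) 0).obj P
    let f : P0 ⟶ L := HomologicalComplex.mkHomFromSingle (z ≫ L.iCycles 0) (by
      intro k _
      rw [Category.assoc, HomologicalComplex.iCycles_d, comp_zero])
    have hf0 : DerivedCategory.Q.map f = 0 := by
      have h1 := hK (DerivedCategory.Q.map f ≫ e.hom)
      rw [← cancel_mono e.hom, zero_comp]
      exact h1
    have : P0.IsKProjective := isKProjective_single P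
    have hq := quotient_map_eq_of_Q_map_eq P0 L f 0 (by rw [hf0, Functor.map_zero])
    have H : Homotopy f 0 := HomotopyCategory.homotopyOfEq _ _ hq
    have hcomm := H.comm 0
    have h1 : dNext 0 H.hom = 0 := by
      rw [dNext_eq H.hom (show (ComplexShape.up ℤ).Rel 0 1 by simp)]
      have : P0.d 0 1 = 0 := HomologicalComplex.single_obj_d _ _ _ _ _
      rw [this, zero_comp]
    have h2 : prevD 0 H.hom = H.hom 0 (-1) ≫ L.d (-1) 0 :=
      prevD_eq H.hom (show (ComplexShape.up ℤ).Rel (-1) 0 by simp)
    rw [h1, h2, HomologicalComplex.zero_f, zero_add, add_zero] at hcomm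
    have h3 : f.f 0 = (HomologicalComplex.singleObjXSelf (ComplexShape.up ℤ) 0 P).hom ≫
        z ≫ L.iCycles 0 := by
      dsimp only [f]
      rw [HomologicalComplex.mkHomFromSingle_f]
    have h4 : z = (HomologicalComplex.singleObjXSelf (ComplexShape.up ℤ) 0 P).inv ≫
        H.hom 0 (-1) ≫ L.toCycles (-1) 0 := by
      rw [← cancel_mono (L.iCycles 0), Category.assoc, Category.assoc,
        HomologicalComplex.toCycles_i, ← hcomm, h3, Iso.inv_hom_id_assoc]
    rw [← hz, h4, Category.assoc, Category.assoc, HomologicalComplex.toCycles_comp_homologyπ,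
      comp_zero, comp_zero]
  rw [IsZero.iff_id_eq_zero]
  apply hP.def
  intro h
  rw [key (h ≫ 𝟙 _), key (h ≫ 0)]

theorem generates_single (P : A) [Projective P] (hP : IsSeparator P) :
    CohDer.Generates (fun _ : PUnit.{v + 1} => (DerivedCategory.singleFunctor A 0).obj P) := by
  intro K hK
  apply isZero_of_isZero_homology
  intro n
  have h0 := isZero_homology_zero_of_hom_eq_zero P hP ((shiftFunctor (DerivedCategory A) n).obj K)
    (fun f => hK PUnit.unit n f)
  exact IsZero.of_iso h0
    (((DerivedCategory.homologyFunctor A 0).shiftIso n 0 n (by simp)).app K).symm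

end Groth.Agent.H33.BrownGA
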