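import Mathlib
import Groth.Agent.H33.KInj.Main

/-!
# The derived category of a Grothendieck abelian category is locally small

For `A` a Grothendieck abelian category (with `Category.{v} A`), any derived category of `A` has
`v`-small hom types (`Hom_{D(A)}(K, L) = Hom_{K(A)}(K, I)` for a K-injective resolution `L → I`),
so that `A` has a derived category with morphisms in `Type v`.
-/

set_option autoImplicit false
universe w v u
open CategoryTheory CategoryTheory.Limits

namespace Groth.Agent.H33.BrownGA

variable (A : Type u) [Category.{v} A] [Abelian A] [IsGrothendieckAbelian.{v} A]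

lemma small_hom_derivedCategory [HasDerivedCategory.{w} A] (X Y : DerivedCategory A) :
    Small.{v} (X ⟶ Y) := by
  obtain ⟨K, ⟨eX⟩⟩ : ∃ K : CochainComplex A ℤ, Nonempty (DerivedCategory.Q.obj K ≅ X) :=
    ⟨_, ⟨DerivedCategory.Q.objObjPreimageIso X⟩⟩
  obtain ⟨L, ⟨eY⟩⟩ : ∃ L : CochainComplex A ℤ, Nonempty (DerivedCategory.Q.obj L ≅ Y) :=
    ⟨_, ⟨DerivedCategory.Q.objObjPreimageIso Y⟩⟩
  obtain ⟨I, f, hI, hf, -, -⟩ := Groth.Agent.H33.KInj.exists_kInjective_resolution L
  have : IsIso (DerivedCategory.Q.map f) := by
    rw [DerivedCategory.isIso_Q_map_iff_quasiIso]; exact hf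
  let eY' : DerivedCategory.Q.obj I ≅ Y := (asIso (DerivedCategory.Q.map f)).symm ≪≫ eY
  -- the surjection from chain maps
  let φ : (K ⟶ I) → (X ⟶ Y) := fun g => eX.inv ≫ DerivedCategory.Q.map g ≫ eY'.hom
  have hφ : Function.Surjective φ := by
    intro a
    obtain ⟨b, hb⟩ := (CochainComplex.IsKInjective.Qh_map_bijective
      ((HomotopyCategory.quotient A (ComplexShape.up ℤ)).obj K) I).2
      ((DerivedCategory.quotientCompQhIso A).hom.app K ≫ eX.hom ≫ a ≫ eY'.inv ≫
        (DerivedCategory.quotientCompQhIso A).inv.app I)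
    obtain ⟨g, rfl⟩ := (HomotopyCategory.quotient A (ComplexShape.up ℤ)).map_surjective b
    refine ⟨g, ?_⟩
    have h1 : DerivedCategory.Q.map g = (DerivedCategory.quotientCompQhIso A).inv.app K ≫
        DerivedCategory.Qh.map ((HomotopyCategory.quotient A (ComplexShape.up ℤ)).map g) ≫
        (DerivedCategory.quotientCompQhIso A).hom.app I := by
      have := (DerivedCategory.quotientCompQhIso A).hom.naturality g
      dsimp at this
      rw [this, Iso.inv_hom_id_app_assoc]
    dsimp only [φ]
    rw [h1, hb]
    simp
  exact small_of_surjective hφ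

instance locallySmall_derivedCategory [HasDerivedCategory.{w} A] :
    LocallySmall.{v} (DerivedCategory A) :=
  ⟨fun X Y => small_hom_derivedCategory A X Y⟩

/-- A derived category of `A` with hom types in `Type v`. -/
@[instance_reducible]
noncomputable def hasDerivedCategorySmall : HasDerivedCategory.{v} A :=
  letI := HasDerivedCategory.standard A
  MorphismProperty.hasLocalizationOfLocallySmall.{v}
    (HomologicalComplex.quasiIso A (ComplexShape.up ℤ)) (DerivedCategory.Q (C := A))

end Groth.Agent.H33.BrownGA
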