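import Mathlib

/-!
# Brown representability passes to Bousfield localizations

Let `LF : T ⥤ D` be a triangulated functor with a fully faithful right adjoint `RG`. If every
product-preserving homological functor `Tᵒᵖ ⥤ Ab` is representable, the same holds for `D`.
-/

set_option autoImplicit false
universe v u₁ u₂
open CategoryTheory CategoryTheory.Limits CategoryTheory.Pretriangulated Opposite

namespace Groth.Agent.H33.BrownGA

variable {T : Type u₁} [Category.{v} T] [Preadditive T] [HasZeroObject T] [HasShift T ℤ]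
  [∀ n : ℤ, (shiftFunctor T n).Additive] [Pretriangulated T]
  {D : Type u₂} [Category.{v} D] [Preadditive D] [HasZeroObject D] [HasShift D ℤ]
  [∀ n : ℤ, (shiftFunctor D n).Additive] [Pretriangulated D]
  (LF : T ⥤ D) [LF.CommShift ℤ] [LF.IsTriangulated] (RG : D ⥤ T) (adj : LF ⊣ RG)
  [IsIso adj.counit]

section

variable (H : Dᵒᵖ ⥤ AddCommGrpCat.{v}) [H.PreservesZeroMorphisms]
  {Z : T} (rep : ((LF.op ⋙ H) ⋙ forget AddCommGrpCat.{v}).RepresentableBy Z)

include rep in
omit [LF.CommShift ℤ] [LF.IsTriangulated] [HasShift T ℤ] [∀ n : ℤ, (shiftFunctor T n).Additive]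
  [Pretriangulated T] [HasShift D ℤ] [∀ n : ℤ, (shiftFunctor D n).Additive] [Pretriangulated D]
  [HasZeroObject T] [HasZeroObject D] in
/-- maps into `Z` from an object killed by `LF` vanish -/
lemma hom_eq_zero_of_isZero {M : T} (hM : IsZero (LF.obj M)) (f : M ⟶ Z) : f = 0 := by
  have h0 : IsZero (H.obj (op (LF.obj M))) := Functor.map_isZero H hM.op
  have : Subsingleton ((forget AddCommGrpCat.{v}).obj (H.obj (op (LF.obj M)))) :=
    AddCommGrpCat.subsingleton_of_isZero h0
  apply rep.homEquiv.injective
  exact Subsingleton.elim (α := (forget AddCommGrpCat.{v}).obj (H.obj (op (LF.obj M)))) _ _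

include rep adj in
/-- the representing object is local: the unit is an isomorphism at `Z` -/
lemma isIso_unit_app : IsIso (adj.unit.app Z) := by
  obtain ⟨C, p, δ, hT⟩ := distinguished_cocone_triangle (adj.unit.app Z)
  have hLF : IsIso (LF.map (adj.unit.app Z)) := by
    have h := adj.left_triangle_components Z
    have : IsIso (adj.counit.app (LF.obj Z)) := inferInstance
    have h' : LF.map (adj.unit.app Z) = inv (adj.counit.app (LF.obj Z)) := by
      rw [← cancel_mono (adj.counit.app (LF.obj Z)), IsIso.inv_hom_id]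
      exact h
    rw [h']
    infer_instance
  have hC : IsZero (LF.obj C) :=
    (Triangle.isZero₃_iff_isIso₁ _ (LF.map_distinguished _ hT)).2 hLF
  -- `δ = 0`
  have hC' : IsZero (LF.obj ((shiftFunctor T (-1 : ℤ)).obj C)) :=
    IsZero.of_iso (Functor.map_isZero _ hC) ((LF.commShiftIso (-1 : ℤ)).app C)
  have h1 : (Triangle.mk (adj.unit.app Z) p δ).invRotate.mor₁ = 0 :=
    hom_eq_zero_of_isZero LF H rep hC' _
  have h2 : Mono (adj.unit.app Z) :=
    (Triangle.mor₁_eq_zero_iff_mono₂ _ (inv_rot_of_distTriang _ hT)).1 h1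
  have hδ : δ = 0 := (Triangle.mor₃_eq_zero_iff_mono₁ _ hT).2 h2
  -- a section of `p`, which has to vanish
  obtain ⟨s, hs⟩ := Triangle.coyoneda_exact₃ _ hT (𝟙 C) (by
    show 𝟙 C ≫ δ = 0
    rw [hδ, comp_zero])
  have hs0 : s = 0 := by
    apply (adj.homEquiv C (LF.obj Z)).symm.injective
    exact hC.eq_of_src _ _
  have hid : 𝟙 C = 0 := hs.trans (by rw [hs0]; exact zero_comp)
  exact (Triangle.isZero₃_iff_isIso₁ _ hT).1 ((IsZero.iff_id_eq_zero C).2 hid)

include rep adj in
/-- `H` is represented by `LF.obj Z` -/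
noncomputable def representableByOfLocalization :
    (H ⋙ forget AddCommGrpCat.{v}).RepresentableBy (LF.obj Z) := by
  have hη := isIso_unit_app LF RG adj H rep
  let hRG : RG.FullyFaithful := adj.fullyFaithfulROfIsIsoCounit
  let e2 : ∀ (Y : D), (RG.obj Y ⟶ RG.obj (LF.obj Z)) ≃ (RG.obj Y ⟶ Z) := fun Y =>
    { toFun := fun t => t ≫ inv (adj.unit.app Z)
      invFun := fun t => t ≫ adj.unit.app Z
      left_inv := fun t => by
        show (t ≫ inv (adj.unit.app Z)) ≫ adj.unit.app Z = t
        rw [Category.assoc, IsIso.inv_hom_id]; exact Category.comp_id _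
      right_inv := fun t => by
        show (t ≫ adj.unit.app Z) ≫ inv (adj.unit.app Z) = t
        rw [Category.assoc, IsIso.hom_inv_id]; exact Category.comp_id _ }
  let E : ∀ (Y : D), (Y ⟶ LF.obj Z) ≃ (H ⋙ forget AddCommGrpCat.{v}).obj (op Y) := fun Y =>
      (hRG.homEquiv (X := Y) (Y := LF.obj Z)).trans
        ((e2 Y).trans
          (rep.homEquiv.trans
            ((H ⋙ forget AddCommGrpCat.{v}).mapIso
              ((asIso (adj.counit.app Y)).symm.op)).toEquiv))
  have hE : ∀ (Y : D) (g : Y ⟶ LF.obj Z), E Y g =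
      (H ⋙ forget AddCommGrpCat.{v}).map (inv (adj.counit.app Y)).op
        (rep.homEquiv (RG.map g ≫ inv (adj.unit.app Z))) := by
    intro Y g
    rfl
  exact
  { homEquiv := fun {Y} => E Y
    homEquiv_comp := fun {Y Y'} f g => by
      have hnat : (inv (adj.counit.app Y')).op ≫ f.op =
          (LF.map (RG.map f)).op ≫ (inv (adj.counit.app Y)).op := by
        rw [← op_comp, ← op_comp]
        congr 1
        rw [IsIso.comp_inv_eq, Category.assoc, IsIso.eq_inv_comp]
        exact (adj.counit.naturality f).symm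
      have h1 : RG.map (f ≫ g) ≫ inv (adj.unit.app Z) =
          RG.map f ≫ (RG.map g ≫ inv (adj.unit.app Z)) := by
        rw [Functor.map_comp, Category.assoc]
      have h2 := rep.homEquiv_comp (RG.map f) (RG.map g ≫ inv (adj.unit.app Z))
      rw [hE, hE, h1, h2]
      have h3 : ∀ x, (H ⋙ forget AddCommGrpCat.{v}).map (inv (adj.counit.app Y)).op
          (((LF.op ⋙ H) ⋙ forget AddCommGrpCat.{v}).map (RG.map f).op x) =
          (H ⋙ forget AddCommGrpCat.{v}).map f.op
            ((H ⋙ forget AddCommGrpCat.{v}).map (inv (adj.counit.app Y')).op x) := by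
        intro x
        have e1 : ((LF.op ⋙ H) ⋙ forget AddCommGrpCat.{v}).map (RG.map f).op =
            (H ⋙ forget AddCommGrpCat.{v}).map (LF.map (RG.map f)).op := rfl
        rw [e1, ← Functor.map_comp_apply, ← Functor.map_comp_apply, hnat]
      exact h3 _ }

end

include adj in
/-- **Brown representability descends along a localization with fully faithful right adjoint.** -/
theorem isRepresentable_of_localization
    (hT : ∀ (H' : Tᵒᵖ ⥤ AddCommGrpCat.{v}) [H'.IsHomological]
      [∀ (ι : Type v), PreservesLimitsOfShape (Discrete ι) H'],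
      (H' ⋙ forget AddCommGrpCat.{v}).IsRepresentable)
    (H : Dᵒᵖ ⥤ AddCommGrpCat.{v}) [H.IsHomological]
    [∀ (ι : Type v), PreservesLimitsOfShape (Discrete ι) H] :
    (H ⋙ forget AddCommGrpCat.{v}).IsRepresentable := by
  open CategoryTheory.Pretriangulated.Opposite in
  have hH' : (LF.op ⋙ H).IsHomological := inferInstance
  have hP : ∀ κ : Type v, PreservesLimitsOfShape (Discrete κ) (LF.op ⋙ H) := by
    intro κ
    have : PreservesColimitsOfSize.{v, v} LF := adj.leftAdjoint_preservesColimits
    have : PreservesColimitsOfShape (Discrete κ)ᵒᵖ LF := inferInstance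
    have : PreservesLimitsOfShape (Discrete κ) LF.op := preservesLimitsOfShape_op _ LF
    infer_instance
  have := hT (LF.op ⋙ H)
  exact (representableByOfLocalization LF RG adj H
    ((LF.op ⋙ H) ⋙ forget AddCommGrpCat.{v}).representableBy).isRepresentable

end Groth.Agent.H33.BrownGA
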