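import Mathlib
import Groth.Agent.H33.BrownGA.SmallDer
import Groth.Agent.H33.BrownGA.GenSingle
import Groth.Agent.H33.BrownGA.Formal
import Groth.Agent.H33.DerAdjU
import Groth.Agent.S0473
import Groth.Agent.S0477

/-!
# Brown representability for the derived category of a Grothendieck abelian category
-/

set_option autoImplicit false
universe v u
open CategoryTheory CategoryTheory.Limits Opposite CategoryTheory.Pretriangulated.Opposite

namespace Groth.Agent.H33.BrownGA

section ModuleCat

variable (R : Type v) [Ring R]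

lemma isSeparator_moduleCat_self : IsSeparator (ModuleCat.of R R) := by
  intro M N f g h
  ext m
  have := h (ModuleCat.of R R) (by simp) (ModuleCat.ofHom (LinearMap.toSpanSingleton R M m))
  have h2 := congrArg (fun t => t.hom (1 : R)) this
  simpa using h2

lemma finFactor_moduleCat_self : Groth.Agent.H82.FinFactor (ModuleCat.of R R) := by
  classical
  intro ι X c hc φ
  let e : c.pt ≅ ModuleCat.of R (DirectSum ι (fun i => X i)) :=
    IsColimit.coconePointUniqueUpToIso hc (ModuleCat.coproductCoconeIsColimit X)
  have he : ∀ i, c.inj i ≫ e.hom = ModuleCat.ofHom (DirectSum.lof R ι (fun i => X i) i) := fun i =>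
    IsColimit.comp_coconePointUniqueUpToIso_hom hc (ModuleCat.coproductCoconeIsColimit X) ⟨i⟩
  let x : DirectSum ι (fun i => X i) := e.hom.hom (φ.hom (1 : R))
  refine ⟨DFinsupp.support x, fun Y g hg => ?_⟩
  ext
  simp only [ModuleCat.hom_comp, LinearMap.coe_comp, Function.comp_apply, ModuleCat.hom_zero,
    LinearMap.zero_apply]
  -- `g` kills `φ 1`
  let g' : DirectSum ι (fun i => X i) →ₗ[R] Y := (e.inv ≫ g).hom
  have hg' : ∀ i ∈ DFinsupp.support x, ∀ y : X i, g' (DirectSum.lof R ι (fun i => X i) i y) = 0 := by
    intro i hi y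
    have h1 : ModuleCat.ofHom (DirectSum.lof R ι (fun i => X i) i) ≫ e.inv ≫ g = 0 := by
      rw [← he i, Category.assoc, Iso.hom_inv_id_assoc, hg i hi]
    have := congrArg (fun t => t.hom y) h1
    simpa [g'] using this
  have hx : g' x = 0 := by
    rw [← DirectSum.sum_support_of x, map_sum]
    apply Finset.sum_eq_zero
    intro i hi
    exact hg' i hi (x i)
  have hx' : g' x = g.hom (φ.hom (1 : R)) := by
    show (e.inv ≫ g).hom (e.hom.hom (φ.hom (1 : R))) = _
    rw [← ModuleCat.comp_apply, Iso.hom_inv_id_assoc]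
  rw [← hx', hx]

end ModuleCat

theorem isCompactlyGenerated_derivedCategory_moduleCat (R : Type v) [Ring R]
    [HasDerivedCategory.{v} (ModuleCat.{v} R)]
    [HasCoproducts.{v} (DerivedCategory (ModuleCat.{v} R))] :
    CohDer.IsCompactlyGenerated (DerivedCategory (ModuleCat.{v} R)) := by
  have : Projective (ModuleCat.of R R) := inferInstance
  exact ⟨PUnit.{v + 1}, fun _ => (DerivedCategory.singleFunctor (ModuleCat.{v} R) 0).obj
      (ModuleCat.of R R),
    fun _ => isCompactObject_single _ (finFactor_moduleCat_self R),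
    generates_single _ (isSeparator_moduleCat_self R)⟩

/-- **Brown representability for `D(A)`, `A` Grothendieck abelian.** -/
theorem brown_derivedCategory {A : Type u} [Category.{v} A] [Abelian A]
    [IsGrothendieckAbelian.{v} A] [HasDerivedCategory.{v} A]
    (H : (DerivedCategory A)ᵒᵖ ⥤ AddCommGrpCat.{v}) [H.IsHomological]
    [∀ (ι : Type v), PreservesLimitsOfShape (Discrete ι) H] :
    (H ⋙ forget AddCommGrpCat.{v}).IsRepresentable := by
  let G : A := separator A
  have hG : IsSeparator G := isSeparator_separator A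
  let _ : HasDerivedCategory.{v} (ModuleCat.{v} (End G)ᵐᵒᵖ) :=
    hasDerivedCategorySmall (ModuleCat.{v} (End G)ᵐᵒᵖ)
  have : HasCoproducts.{v} (DerivedCategory (ModuleCat.{v} (End G)ᵐᵒᵖ)) :=
    Groth.Agent.S0477.result
  have : PreservesFiniteLimits (IsGrothendieckAbelian.tensorObj G) :=
    IsGrothendieckAbelian.GabrielPopescu.preservesFiniteLimits G hG
  have : PreservesFiniteColimits (IsGrothendieckAbelian.tensorObj G) := inferInstance
  have : PreservesBinaryBiproducts (IsGrothendieckAbelian.tensorObj G) :=
    preservesBinaryBiproducts_of_preservesBinaryCoproducts _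
  have : (IsGrothendieckAbelian.tensorObj G).Additive :=
    Functor.additive_of_preservesBinaryBiproducts _
  have hKinj : ∀ K : CochainComplex A ℤ, ∃ (I : CochainComplex A ℤ) (f : K ⟶ I),
      I.IsKInjective ∧ QuasiIso f := fun K => by
    obtain ⟨I, f, hI, hf, -, -⟩ := Groth.Agent.H33.KInj.exists_kInjective_resolution K
    exact ⟨I, f, hI, hf⟩
  have := Groth.Agent.H5.KInjDeriv.hasRightDerivedFunctor hKinj
    ((preadditiveCoyonedaObj G).mapHomotopyCategory (ComplexShape.up ℤ) ⋙
      (DerivedCategory.Qh (C := ModuleCat.{v} (End G)ᵐᵒᵖ)))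
  let adj := IsGrothendieckAbelian.tensorObjPreadditiveCoyonedaObjAdjunction G
  have : (preadditiveCoyonedaObj G).Full := IsGrothendieckAbelian.GabrielPopescu.full G hG
  have : (preadditiveCoyonedaObj G).Faithful :=
    (isSeparator_iff_faithful_preadditiveCoyonedaObj G).1 hG
  have : IsIso adj.counit := inferInstance
  let dadj := Groth.Agent.H33.DerAdjU.derivedAdj adj hKinj
  have : IsIso dadj.counit := Groth.Agent.H33.DerAdjU.isIso_derivedAdj_counit adj hKinj
  have hcg := isCompactlyGenerated_derivedCategory_moduleCat (End G)ᵐᵒᵖ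
  exact isRepresentable_of_localization _ _ dadj
    (fun H' _ _ => Groth.Agent.S0473.result hcg H') H

end Groth.Agent.H33.BrownGA
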